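import Cfsg.Agent.R2.H1.A7.Dat2
import Cfsg.Agent.R2.H1.A7.S1b

/-!
# `p = 7`, the products on `U = <m> + <v>` (box U7 of S5931)

`x * U ⊆ U` and the trilinear form vanishes on `U`.
-/

set_option autoImplicit false
set_option linter.unusedSectionVars false

namespace Cfsg.Agent.R2.H5.U7

open Cfsg Cfsg.Lie Module Cfsg.Agent.H952.F4 Cfsg.Agent.H952.F4.Jord
open Cfsg.Agent.ChevalleyStructure.E6Min.Tables Cfsg.Agent.ChevalleyStructure.E6Min.Basic
open Cfsg.Agent.R2.F4N (Str)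
open Cfsg.Agent.R2.F4L (Act)
open Cfsg.Agent.H952.F4.FixV (W0 mem_W0 finrank_W0 trL tfL tfL_apply tr1_sub tf_sub_left tf_sub_right)
open Cfsg.Agent.R2.H1.F4
open Cfsg.Agent.R2.H1.A7
open Finset

universe u v w

/-! ### the scaled tables -/

/-- the table with the denominators inverted modulo `7` -/
def ee (A B C l m n a b c : ℕ) : ℤ :=
  tau A B C a b c * ((l.choose a * (m.choose b * n.choose c) : ℕ) : ℤ) ^ 5 % 7

theorem ee_level {A B C l m n a b c : ℕ} (h : a + b + c ≠ A + B + C) : ee A B C l m n a b c = 0 := by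
  unfold ee
  rw [tau_level h, zero_mul]
  rfl

section

variable {k : Type u} [Field k] [Fact (Nat.Prime 7)] [CharP k 7]

theorem emod7 (z : ℤ) : ((z % 7 : ℤ) : k) = (z : k) := by
  have h1 : ((7 * (z / 7) : ℤ) : k) = 0 := by
    rw [Int.cast_mul]
    have h2 : ((7 : ℤ) : k) = 0 := by exact_mod_cast sv7 k
    rw [h2, zero_mul]
  have h3 : z = 7 * (z / 7) + z % 7 := (Int.mul_ediv_add_emod z 7).symm
  conv_rhs => rw [h3, Int.cast_add, h1, zero_add]

theorem solve7 {l m n a b c : ℕ} (hl : l < 7) (hm : m < 7) (hn : n < 7) (ha : a ≤ l) (hb : b ≤ m) (hc : c ≤ n) {t c₀ : k}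
    {A B C : ℕ} (h : ((l.choose a : ℕ) : k) * (((m.choose b : ℕ) : k) * (((n.choose c : ℕ) : k) * t)) =
      c₀ * (tau A B C a b c : k)) : t = c₀ * ((ee A B C l m n a b c : ℤ) : k) := by
  have e1 : ((l : ℕ).choose a : k) ≠ 0 := R2.F4N.choose_ne (p := 7) hl ha
  have e2 : ((m : ℕ).choose b : k) ≠ 0 := R2.F4N.choose_ne (p := 7) hm hb
  have e3 : ((n : ℕ).choose c : k) ≠ 0 := R2.F4N.choose_ne (p := 7) hn hc
  set N : ℕ := l.choose a * (m.choose b * n.choose c) with hN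
  have hN0 : ((N : ℕ) : k) ≠ 0 := by
    rw [hN]
    push_cast
    exact mul_ne_zero e1 (mul_ne_zero e2 e3)
  have hN1 : ¬ 7 ∣ N := fun h7 => hN0 ((CharP.cast_eq_zero_iff k 7 N).2 h7)
  have hN6 : ((N : ℕ) : k) ^ 6 = 1 := by
    have h1 : ((N : ℕ) : ZMod 7) ≠ 0 := by
      rw [Ne, ZMod.natCast_eq_zero_iff]
      exact hN1
    have h2 := ZMod.pow_card_sub_one_eq_one h1
    have h3 := congrArg (ZMod.castHom (dvd_refl 7) k) h2
    rw [map_pow, map_natCast, map_one] at h3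
    exact h3
  have h' : ((N : ℕ) : k) * t = c₀ * (tau A B C a b c : k) := by
    rw [hN]
    push_cast
    rw [← h]
    ring
  unfold ee
  rw [← hN, emod7]
  push_cast
  calc t = ((N : ℕ) : k) ^ 6 * t := by rw [hN6, one_mul]
    _ = ((N : ℕ) : k) ^ 5 * (((N : ℕ) : k) * t) := by ring
    _ = c₀ * ((tau A B C a b c : k) * ((N : ℕ) : k) ^ 5) := by rw [h']; ring

end

/-! ### the multiplications by the `x a` -/

section

variable {k : Type u} [Field k] {K : Type w} [Field K] [Fintype K] {κ : K →+* k}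
variable {ρ : Representation k (Matrix.SpecialLinearGroup (Fin 2) K) (I27 → k)}
variable {x m v : ℕ → (I27 → k)} [Fact (Nat.Prime 7)] [CharP k 7]

/-- the coefficients of the `m c` and the `v c` in `x a * m b` and `x a * v b` -/
def f1 (a b c : ℕ) : ℤ := (-1) ^ c * ((4 : ℕ).choose c : ℤ) * ee 2 2 2 4 4 4 a b (4 - c)

def f2 (a b c : ℕ) : ℤ := (-1) ^ c * ((6 : ℕ).choose c : ℤ) * ee 1 3 3 4 4 6 a b (6 - c)

def f3 (a b c : ℕ) : ℤ := (-1) ^ c * ((4 : ℕ).choose c : ℤ) * ee 1 3 3 4 4 6 a (4 - c) b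

def f5 (a b c : ℕ) : ℤ := (-1) ^ c * ((6 : ℕ).choose c : ℤ) * ee 2 2 4 4 6 6 a b (6 - c)

/-- the tables -/
structure Tb (x m v : ℕ → (I27 → k)) (p1 p2 p3 g1 g2 : k) : Prop where
  xmm : ∀ a ≤ 4, ∀ b ≤ 4, ∀ c ≤ 4, tf (st (x a) (m b)) (m c) = p1 * ((ee 2 2 2 4 4 4 a b c : ℤ) : k)
  xmv : ∀ a ≤ 4, ∀ b ≤ 4, ∀ c ≤ 6, tf (st (x a) (m b)) (v c) = p2 * ((ee 1 3 3 4 4 6 a b c : ℤ) : k)
  xvv : ∀ a ≤ 4, ∀ b ≤ 6, ∀ c ≤ 6, tf (st (x a) (v b)) (v c) = p3 * ((ee 2 2 4 4 6 6 a b c : ℤ) : k)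
  mmm : ∀ a ≤ 4, ∀ b ≤ 4, ∀ c ≤ 4, tf (st (m a) (m b)) (m c) = g1 * ((ee 2 2 2 4 4 4 a b c : ℤ) : k)
  mvv : ∀ a ≤ 4, ∀ b ≤ 6, ∀ c ≤ 6, tf (st (m a) (v b)) (v c) = g2 * ((ee 2 2 4 4 6 6 a b c : ℤ) : k)
  mmv : ∀ a ≤ 4, ∀ b ≤ 4, ∀ c ≤ 6, tf (st (m a) (m b)) (v c) = 0

theorem exists_tb (D : Dat2 κ ρ x m v) (hK : 7 ≤ Fintype.card K) : ∃ p1 p2 p3 g1 g2 : k, Tb x m v p1 p2 p3 g1 g2 := by
  obtain ⟨p1, h1⟩ := tab222 hK D.act D.sx D.sm D.sm
  obtain ⟨p2, h2⟩ := tab133 hK D.act D.sx D.sm D.sv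
  obtain ⟨p3, h3⟩ := tab224 hK D.act D.sx D.sv D.sv
  obtain ⟨g1, h4⟩ := tab222 hK D.act D.sm D.sm D.sm
  obtain ⟨g2, h5⟩ := tab224 hK D.act D.sm D.sv D.sv
  refine ⟨p1, p2, p3, g1, g2, ?_, ?_, ?_, ?_, ?_, ?_⟩
  · intro a ha b hb c hc
    exact solve7 (by norm_num) (by norm_num) (by norm_num) ha hb hc (h1 a b c)
  · intro a ha b hb c hc
    exact solve7 (by norm_num) (by norm_num) (by norm_num) ha hb hc (h2 a b c)
  · intro a ha b hb c hc
    exact solve7 (by norm_num) (by norm_num) (by norm_num) ha hb hc (h3 a b c)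
  · intro a ha b hb c hc
    exact solve7 (by norm_num) (by norm_num) (by norm_num) ha hb hc (h4 a b c)
  · intro a ha b hb c hc
    exact solve7 (by norm_num) (by norm_num) (by norm_num) ha hb hc (h5 a b c)
  · intro a ha b hb c hc
    exact tab_anti133 hK D.act D.sm D.sv ha hb hc

variable {p1 p2 p3 g1 g2 : k}

theorem tr_xs (D : Dat2 κ ρ x m v) {a : ℕ} (ha : a ≤ 4) (u : I27 → k) : tr1 (st (x a) u) = 0 :=
  tr1_st (n3 k) (D.tx a ha)

theorem xm (D : Dat2 κ ρ x m v) (T : Tb x m v p1 p2 p3 g1 g2) {a b : ℕ} (ha : a ≤ 4) (hb : b ≤ 4) :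
    st (x a) (m b) = (p1 * (f1 a b (a + b - 2) : ℤ)) • m (a + b - 2) + (p2 * (f2 a b (a + b - 1) : ℤ)) • v (a + b - 1) := by
  have h1 := D.udec (st (x a) (m b)) (tr_xs D ha _) (fun c hc d hd => by
    rw [st_comm, tf_st_rot (D.tm b hb) (tr1_st (n3 k) (D.tx c hc)), tf_comm]
    exact D.f4 a ha c hc d hd b hb)
  rw [h1]
  congr 1
  · rw [sum_eq_single (a + b - 2)]
    · by_cases hc : a + b - 2 ≤ 4
      · rw [T.xmm a ha b hb _ (by omega), f1]
        congr 1
        push_cast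
        ring
      · have h0 : f1 a b (a + b - 2) = 0 := by
          rw [f1, ee_level (by omega), mul_zero]
        rw [h0]
        have h2 : (4 : ℕ).choose (a + b - 2) = 0 := Nat.choose_eq_zero_of_lt (by omega)
        rw [h2]
        simp
    · intro c hc hne
      have hc' := mem_range.1 hc
      rw [T.xmm a ha b hb _ (by omega), ee_level (by omega)]
      simp
    · intro hc
      rw [mem_range, not_lt] at hc
      have h2 : (4 : ℕ).choose (a + b - 2) = 0 := Nat.choose_eq_zero_of_lt (by omega)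
      rw [h2]
      simp
  · rw [sum_eq_single (a + b - 1)]
    · by_cases hc : a + b - 1 ≤ 6
      · rw [T.xmv a ha b hb _ (by omega), f2]
        congr 1
        push_cast
        ring
      · have h0 : f2 a b (a + b - 1) = 0 := by
          rw [f2, ee_level (by omega), mul_zero]
        rw [h0]
        have h2 : (6 : ℕ).choose (a + b - 1) = 0 := Nat.choose_eq_zero_of_lt (by omega)
        rw [h2]
        simp
    · intro c hc hne
      have hc' := mem_range.1 hc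
      rw [T.xmv a ha b hb _ (by omega), ee_level (by omega)]
      simp
    · intro hc
      rw [mem_range, not_lt] at hc
      have h2 : (6 : ℕ).choose (a + b - 1) = 0 := Nat.choose_eq_zero_of_lt (by omega)
      rw [h2]
      simp

theorem xv (D : Dat2 κ ρ x m v) (T : Tb x m v p1 p2 p3 g1 g2) {a b : ℕ} (ha : a ≤ 4) (hb : b ≤ 6) :
    st (x a) (v b) = (p2 * (f3 a b (a + b - 3) : ℤ)) • m (a + b - 3) + (p3 * (f5 a b (a + b - 2) : ℤ)) • v (a + b - 2) := by
  have h1 := D.udec (st (x a) (v b)) (tr_xs D ha _) (fun c hc d hd => by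
    rw [st_comm, tf_st_rot (D.tv b hb) (tr1_st (n3 k) (D.tx c hc)), tf_comm]
    exact D.f6 a ha c hc d hd b hb)
  have hsw : ∀ c ≤ 4, tf (st (x a) (v b)) (m c) = tf (st (x a) (m c)) (v b) := by
    intro c hc
    rw [st_comm, tf_st_rot (D.tv b hb) (D.tm c hc), tf_comm]
  rw [h1]
  congr 1
  · rw [sum_eq_single (a + b - 3)]
    · by_cases hc : a + b - 3 ≤ 4
      · rw [hsw _ (by omega), T.xmv a ha _ (by omega) b hb, f3]
        congr 1
        push_cast
        ring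
      · have h0 : f3 a b (a + b - 3) = 0 := by
          rw [f3, ee_level (by omega), mul_zero]
        rw [h0]
        have h2 : (4 : ℕ).choose (a + b - 3) = 0 := Nat.choose_eq_zero_of_lt (by omega)
        rw [h2]
        simp
    · intro c hc hne
      have hc' := mem_range.1 hc
      rw [hsw _ (by omega), T.xmv a ha _ (by omega) b hb, ee_level (by omega)]
      simp
    · intro hc
      rw [mem_range, not_lt] at hc
      have h2 : (4 : ℕ).choose (a + b - 3) = 0 := Nat.choose_eq_zero_of_lt (by omega)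
      rw [h2]
      simp
  · rw [sum_eq_single (a + b - 2)]
    · by_cases hc : a + b - 2 ≤ 6
      · rw [T.xvv a ha b hb _ (by omega), f5]
        congr 1
        push_cast
        ring
      · have h0 : f5 a b (a + b - 2) = 0 := by
          rw [f5, ee_level (by omega), mul_zero]
        rw [h0]
        have h2 : (6 : ℕ).choose (a + b - 2) = 0 := Nat.choose_eq_zero_of_lt (by omega)
        rw [h2]
        simp
    · intro c hc hne
      have hc' := mem_range.1 hc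
      rw [T.xvv a ha b hb _ (by omega), ee_level (by omega)]
      simp
    · intro hc
      rw [mem_range, not_lt] at hc
      have h2 : (6 : ℕ).choose (a + b - 2) = 0 := Nat.choose_eq_zero_of_lt (by omega)
      rw [h2]
      simp

/-- the space `U` -/
def UU (m v : ℕ → (I27 → k)) : Submodule k (I27 → k) := spx 4 m ⊔ spx 6 v

theorem UU_m {a : ℕ} (ha : a ≤ 4) : m a ∈ UU m v := Submodule.mem_sup_left (Submodule.subset_span ⟨a, ha, rfl⟩)

theorem UU_v {a : ℕ} (ha : a ≤ 6) : v a ∈ UU m v := Submodule.mem_sup_right (Submodule.subset_span ⟨a, ha, rfl⟩)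

theorem UU_le {S : Submodule k (I27 → k)} (h1 : ∀ a ≤ 4, m a ∈ S) (h2 : ∀ a ≤ 6, v a ∈ S) : UU m v ≤ S := by
  refine sup_le ?_ ?_
  · refine Submodule.span_le.2 ?_
    rintro _ ⟨a, ha, rfl⟩
    exact h1 a ha
  · refine Submodule.span_le.2 ?_
    rintro _ ⟨a, ha, rfl⟩
    exact h2 a ha

theorem UU_dec (D : Dat2 κ ρ x m v) {w : I27 → k} (hw : tr1 w = 0)
    (h : ∀ a ≤ 4, ∀ b ≤ 4, tf w (st (x a) (x b)) = 0) : w ∈ UU m v := by
  rw [D.udec w hw h]
  refine Submodule.add_mem _ (Submodule.sum_mem _ fun c hc => Submodule.smul_mem _ _ (UU_m ?_))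
    (Submodule.sum_mem _ fun c hc => Submodule.smul_mem _ _ (UU_v ?_))
  · have := mem_range.1 hc
    omega
  · have := mem_range.1 hc
    omega

/-- the multiplication by `y` -/
noncomputable def stL (y : I27 → k) : (I27 → k) →ₗ[k] (I27 → k) where
  toFun u := st y u
  map_add' a b := st_add_right y a b
  map_smul' c a := st_smul_right c y a

theorem stL_apply (y u : I27 → k) : stL y u = st y u := rfl

theorem xu (D : Dat2 κ ρ x m v) {a : ℕ} (ha : a ≤ 4) {u : I27 → k} (hu : u ∈ UU m v) : st (x a) u ∈ UU m v := by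
  have h : UU m v ≤ (UU m v).comap (stL (x a)) := by
    refine UU_le ?_ ?_
    · intro b hb
      rw [Submodule.mem_comap, stL_apply]
      refine UU_dec D (tr_xs D ha _) fun c hc d hd => ?_
      rw [st_comm, tf_st_rot (D.tm b hb) (tr1_st (n3 k) (D.tx c hc)), tf_comm]
      exact D.f4 a ha c hc d hd b hb
    · intro b hb
      rw [Submodule.mem_comap, stL_apply]
      refine UU_dec D (tr_xs D ha _) fun c hc d hd => ?_
      rw [st_comm, tf_st_rot (D.tv b hb) (tr1_st (n3 k) (D.tx c hc)), tf_comm]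
      exact D.f6 a ha c hc d hd b hb
  exact h hu

theorem z7 {z r : ℤ} (h : z % 7 = r % 7) : (z : k) = (r : k) := by
  rw [← emod7 (k := k) z, h, emod7]

/-- the cubic relation -/
theorem cub {y u : I27 → k} (hy : tr1 y = 0) (hu : tr1 u = 0) (hyy : tf y y = 0) (hyu : tf y u = 0)
    (hq : tf (st y y) u = 0) : (6 : k) • st y (st y (st y u)) = -(tf (st y y) y) • u := by
  have h2 := n2 k
  have h3 := n3 k
  have hyu' : tr1 (st y u) = 0 := tr1_st h3 hy
  have hyy' : tr1 (st y y) = 0 := tr1_st h3 hy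
  have a := lin3 h2 h3 hy hy hu
  have b := lin3 h2 h3 hy hy hyu'
  have c := lin3 h2 h3 hy hu hyy'
  have d := st_cube h2 h3 hy
  have e1 : tf y (st y u) = 0 := by rw [← tf_st_rot hy hu]; exact hq
  have e2 : tf u (st y y) = 0 := by rw [tf_comm]; exact hq
  rw [hyy, mul_zero, zero_smul] at d
  rw [hyu, hyy, zero_smul, zero_smul, add_zero, add_zero, smul_zero] at a
  rw [e1, hyy, zero_smul, zero_smul, add_zero, add_zero, smul_zero] at b
  rw [e2, hyu, zero_smul, zero_smul, zero_add, add_zero, d, tf_comm y (st y y)] at c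
  have a' : st u (st y y) = (-2 : k) • st y (st y u) := by
    linear_combination (norm := module) a
  have b' : st (st y y) (st y u) = (-2 : k) • st y (st y (st y u)) := by
    rw [st_comm (st y y)]
    linear_combination (norm := module) b
  have z0 : st u (0 : I27 → k) = 0 := by
    have := st_smul_right (0 : k) u (0 : I27 → k)
    rwa [zero_smul, zero_smul] at this
  rw [a', b', st_smul_right, z0, add_zero] at c
  have c' := congrArg (fun w => (3 / 2 : k) • w) c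
  have e4 : (3 / 2 : k) * (2 / 3) = 1 := by field_simp
  simp only [smul_add, smul_smul, ← mul_assoc, e4, one_mul] at c'
  have e5 : (3 / 2 : k) * -2 = -3 := by field_simp
  rw [e5] at c'
  linear_combination (norm := module) -c'

theorem cub_x (D : Dat2 κ ρ x m v) {u : I27 → k} (hu : tr1 u = 0) (h1 : tf (x 2) u = 0)
    (h2 : tf (st (x 2) (x 2)) u = 0) :
    (6 : k) • st (x 2) (st (x 2) (st (x 2) u)) = -(tf (st (x 2) (x 2)) (x 2)) • u :=
  cub (D.tx 2 (by norm_num)) hu (D.xx 2 (by norm_num) 2 (by norm_num)) h1 h2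

theorem st_zero (y : I27 → k) : st y 0 = 0 := by
  have := st_smul_right (0 : k) y (0 : I27 → k)
  rwa [zero_smul, zero_smul] at this

theorem tf_zero_left (y : I27 → k) : tf 0 y = 0 := by
  have := tf_smul_left (0 : k) (0 : I27 → k) y
  rwa [zero_smul, zero_mul] at this

theorem p2_ne (D : Dat2 κ ρ x m v) (hK : 7 ≤ Fintype.card K) (T : Tb x m v p1 p2 p3 g1 g2) : p2 ≠ 0 := by
  intro h0
  have hm0 : m 0 ≠ 0 := by
    intro h
    have h1 := D.m1
    rw [h, tf_zero_left] at h1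
    exact zero_ne_one h1
  have hm2 : m 2 ≠ 0 := str_ne D.sm (by omega) hm0 (by norm_num)
  have e1 : st (x 2) (m 2) = p1 • m 2 := by
    have h := xm D T (a := 2) (b := 2) (by norm_num) (by norm_num)
    rw [h0, zero_mul, zero_smul, add_zero, z7 (by decide +kernel : f1 2 2 (2 + 2 - 2) % 7 = 1 % 7)] at h
    rw [h]
    norm_num
  have e2 : st (x 2) (m 0) = (-p1) • m 0 := by
    have h := xm D T (a := 2) (b := 0) (by norm_num) (by norm_num)
    rw [h0, zero_mul, zero_smul, add_zero, z7 (by decide +kernel : f1 2 0 (2 + 0 - 2) % 7 = (-1) % 7)] at h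
    rw [h]
    norm_num
  have c1 := cub_x D (D.tm 2 (by norm_num)) (D.xm 2 (by norm_num) 2 (by norm_num))
    (D.xxm 2 (by norm_num) 2 (by norm_num) 2 (by norm_num))
  have c2 := cub_x D (D.tm 0 (by norm_num)) (D.xm 2 (by norm_num) 0 (by norm_num))
    (D.xxm 2 (by norm_num) 2 (by norm_num) 0 (by norm_num))
  rw [e1, st_smul_right, e1, st_smul_right, st_smul_right, e1, smul_smul, smul_smul, smul_smul] at c1
  rw [e2, st_smul_right, e2, st_smul_right, st_smul_right, e2, smul_smul, smul_smul, smul_smul] at c2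
  have d1 := smul_left_injective k hm2 c1
  have d2 := smul_left_injective k hm0 c2
  have hn := D.c1
  apply hn
  have h3 : (2 : k) * tf (st (x 2) (x 2)) (x 2) = 0 := by
    linear_combination d1 + d2
  exact (mul_eq_zero.1 h3).resolve_left (n2 k)

theorem four0 (D : Dat2 κ ρ x m v) {a : ℕ} (ha : a ≤ 4) {y z w : I27 → k} (hy : tr1 y = 0) (hz : tr1 z = 0)
    (hw : tr1 w = 0) (h1 : tf (x a) y = 0) (h2 : tf (x a) z = 0) (h3 : tf (x a) w = 0) :
    tf (st (x a) y) (st z w) + tf (st (x a) z) (st y w) + tf (st (x a) w) (st y z) = 0 := by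
  have h := four (n2 k) (n3 k) (D.tx a ha) hy hz hw
  rw [h1, h2, h3] at h
  rw [h]
  ring

theorem g2_zero (D : Dat2 κ ρ x m v) (T : Tb x m v p1 p2 p3 g1 g2) (hp : p2 ≠ 0) : g2 = 0 := by
  have h := four0 D (a := 0) (by norm_num) (D.tm 3 (by norm_num)) (D.tm 4 (by norm_num)) (D.tv 2 (by norm_num))
    (D.xm 0 (by norm_num) 3 (by norm_num)) (D.xm 0 (by norm_num) 4 (by norm_num)) (D.xv 0 (by norm_num) 2 (by norm_num))
  have e1 : st (x 0) (m 3) = (p1 * 4) • m 1 + p2 • v 2 := by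
    have h := xm D T (a := 0) (b := 3) (by norm_num) (by norm_num)
    rw [z7 (by decide +kernel : f1 0 3 (0 + 3 - 2) % 7 = 4 % 7), z7 (by decide +kernel : f2 0 3 (0 + 3 - 1) % 7 = 1 % 7)] at h
    rw [h]
    norm_num
  have e2 : st (x 0) (m 4) = p1 • m 2 + (p2 * 6) • v 3 := by
    have h := xm D T (a := 0) (b := 4) (by norm_num) (by norm_num)
    rw [z7 (by decide +kernel : f1 0 4 (0 + 4 - 2) % 7 = 1 % 7), z7 (by decide +kernel : f2 0 4 (0 + 4 - 1) % 7 = 6 % 7)] at h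
    rw [h]
    norm_num
  have e3 : st (x 0) (v 2) = p3 • v 0 := by
    have h := xv D T (a := 0) (b := 2) (by norm_num) (by norm_num)
    rw [z7 (by decide +kernel : f3 0 2 (0 + 2 - 3) % 7 = 0 % 7), z7 (by decide +kernel : f5 0 2 (0 + 2 - 2) % 7 = 1 % 7)] at h
    rw [h]
    norm_num
  have a1 : tf (m 1) (st (m 4) (v 2)) = 0 := by
    rw [← tf_st_rot (D.tm 1 (by norm_num)) (D.tv 2 (by norm_num))]
    exact T.mmv _ (by norm_num) _ (by norm_num) _ (by norm_num)
  have a2 : tf (m 2) (st (m 3) (v 2)) = 0 := by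
    rw [← tf_st_rot (D.tm 2 (by norm_num)) (D.tv 2 (by norm_num))]
    exact T.mmv _ (by norm_num) _ (by norm_num) _ (by norm_num)
  have a3 : tf (v 0) (st (m 3) (m 4)) = 0 := by
    rw [tf_comm]
    exact T.mmv _ (by norm_num) _ (by norm_num) _ (by norm_num)
  have a4 : tf (v 2) (st (m 4) (v 2)) = g2 * 6 := by
    rw [tf_comm, T.mvv 4 (by norm_num) 2 (by norm_num) 2 (by norm_num),
      z7 (by decide +kernel : ee 2 2 4 4 6 6 4 2 2 % 7 = 6 % 7)]
    norm_num
  have a5 : tf (v 3) (st (m 3) (v 2)) = g2 := by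
    rw [tf_comm, T.mvv 3 (by norm_num) 2 (by norm_num) 3 (by norm_num),
      z7 (by decide +kernel : ee 2 2 4 4 6 6 3 2 3 % 7 = 1 % 7)]
    norm_num
  rw [e1, e2, e3, tf_add_left, tf_add_left, tf_smul_left, tf_smul_left, tf_smul_left, tf_smul_left, tf_smul_left, a1, a2, a3,
    a4, a5] at h
  have h2 : (12 : k) * (p2 * g2) = 0 := by linear_combination h
  exact ((mul_eq_zero.1 ((mul_eq_zero.1 h2).resolve_left (n12 k))).resolve_left hp)

theorem g1_zero (D : Dat2 κ ρ x m v) (T : Tb x m v p1 p2 p3 g1 g2) (hp : p2 ≠ 0) (hg : g2 = 0) : g1 = 0 := by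
  have h := four0 D (a := 0) (by norm_num) (D.tm 1 (by norm_num)) (D.tm 2 (by norm_num)) (D.tv 6 (by norm_num))
    (D.xm 0 (by norm_num) 1 (by norm_num)) (D.xm 0 (by norm_num) 2 (by norm_num)) (D.xv 0 (by norm_num) 6 (by norm_num))
  have e1 : st (x 0) (m 1) = (p2 * 5) • v 0 := by
    have h := xm D T (a := 0) (b := 1) (by norm_num) (by norm_num)
    rw [z7 (by decide +kernel : f1 0 1 (0 + 1 - 2) % 7 = 0 % 7), z7 (by decide +kernel : f2 0 1 (0 + 1 - 1) % 7 = 5 % 7)] at h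
    rw [h]
    norm_num
  have e2 : st (x 0) (m 2) = (p1 * 6) • m 0 + (p2 * 3) • v 1 := by
    have h := xm D T (a := 0) (b := 2) (by norm_num) (by norm_num)
    rw [z7 (by decide +kernel : f1 0 2 (0 + 2 - 2) % 7 = 6 % 7), z7 (by decide +kernel : f2 0 2 (0 + 2 - 1) % 7 = 3 % 7)] at h
    rw [h]
    norm_num
  have e3 : st (x 0) (v 6) = p2 • m 3 + p3 • v 4 := by
    have h := xv D T (a := 0) (b := 6) (by norm_num) (by norm_num)
    rw [z7 (by decide +kernel : f3 0 6 (0 + 6 - 3) % 7 = 1 % 7), z7 (by decide +kernel : f5 0 6 (0 + 6 - 2) % 7 = 1 % 7)] at h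
    rw [h]
    norm_num
  have a1 : tf (v 0) (st (m 2) (v 6)) = 0 := by
    rw [tf_comm, T.mvv 2 (by norm_num) 6 (by norm_num) 0 (by norm_num), hg, zero_mul]
  have a2 : tf (m 0) (st (m 1) (v 6)) = 0 := by
    rw [← tf_st_rot (D.tm 0 (by norm_num)) (D.tv 6 (by norm_num))]
    exact T.mmv _ (by norm_num) _ (by norm_num) _ (by norm_num)
  have a3 : tf (v 1) (st (m 1) (v 6)) = 0 := by
    rw [tf_comm, T.mvv 1 (by norm_num) 6 (by norm_num) 1 (by norm_num), hg, zero_mul]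
  have a4 : tf (m 3) (st (m 1) (m 2)) = g1 * 6 := by
    rw [tf_comm, T.mmm 1 (by norm_num) 2 (by norm_num) 3 (by norm_num),
      z7 (by decide +kernel : ee 2 2 2 4 4 4 1 2 3 % 7 = 6 % 7)]
    norm_num
  have a5 : tf (v 4) (st (m 1) (m 2)) = 0 := by
    rw [tf_comm]
    exact T.mmv _ (by norm_num) _ (by norm_num) _ (by norm_num)
  rw [e1, e2, e3, tf_add_left, tf_add_left, tf_smul_left, tf_smul_left, tf_smul_left, tf_smul_left, tf_smul_left, a1, a2, a3,
    a4, a5] at h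
  have h2 : (6 : k) * (p2 * g1) = 0 := by linear_combination h
  exact ((mul_eq_zero.1 ((mul_eq_zero.1 h2).resolve_left (n6 k))).resolve_left hp)

theorem vvv_aux (D : Dat2 κ ρ x m v) (T : Tb x m v p1 p2 p3 g1 g2) (hp : p2 ≠ 0) (hg : g2 = 0) {a b : ℕ} (ha : a ≤ 4)
    (hb : b ≤ 4) (hab : f1 a b (a + b - 2) % 7 = 0 % 7 ∨ a + b - 2 ≤ 4) (hf : f2 a b (a + b - 1) % 7 ≠ 0) {i j : ℕ} (hi : i ≤ 6) (hj : j ≤ 6) :
    tf (v (a + b - 1)) (st (v i) (v j)) = 0 := by
  have h := four0 D ha (D.tm b hb) (D.tv i hi) (D.tv j hj) (D.xm a ha b hb) (D.xv a ha i hi) (D.xv a ha j hj)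
  have hU : ∀ j ≤ 6, ∀ u ∈ UU m v, tf u (st (m b) (v j)) = 0 := by
    intro j hj
    have h1 : UU m v ≤ LinearMap.ker (tfL k (st (m b) (v j))) := by
      refine UU_le ?_ ?_
      · intro c hc
        rw [LinearMap.mem_ker, tfL_apply, tf_comm, ← tf_st_rot (D.tm c hc) (D.tv j hj)]
        exact T.mmv _ hc _ hb _ hj
      · intro c hc
        rw [LinearMap.mem_ker, tfL_apply, T.mvv b hb j hj c hc, hg, zero_mul]
    intro u hu
    have h2 := h1 hu
    rw [LinearMap.mem_ker, tfL_apply, tf_comm] at h2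
    exact h2
  rw [hU j hj _ (xu D ha (UU_v hi)), hU i hi _ (xu D ha (UU_v hj)), add_zero, add_zero, xm D T ha hb, tf_add_left,
    tf_smul_left, tf_smul_left] at h
  have h3 : p1 * ((f1 a b (a + b - 2) : ℤ) : k) * tf (m (a + b - 2)) (st (v i) (v j)) = 0 := by
    rcases hab with hab | hab
    · rw [z7 hab, Int.cast_zero, mul_zero, zero_mul]
    · rw [← tf_st_rot (D.tm _ hab) (D.tv j hj), T.mvv _ hab i hi j hj, hg, zero_mul, mul_zero]
  rw [h3, zero_add] at h
  refine (mul_eq_zero.1 h).resolve_left (mul_ne_zero hp ?_)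
  rw [Ne, CharP.intCast_eq_zero_iff k 7]
  intro h4
  exact hf (Int.emod_eq_zero_of_dvd h4)

theorem vvv (D : Dat2 κ ρ x m v) (T : Tb x m v p1 p2 p3 g1 g2) (hp : p2 ≠ 0) (hg : g2 = 0) {c i j : ℕ} (hc : c ≤ 6)
    (hi : i ≤ 6) (hj : j ≤ 6) : tf (v c) (st (v i) (v j)) = 0 := by
  interval_cases c
  · exact vvv_aux D T hp hg (a := 0) (b := 1) (by norm_num) (by norm_num) (by decide +kernel) (by decide +kernel) hi hj
  · exact vvv_aux D T hp hg (a := 0) (b := 2) (by norm_num) (by norm_num) (by decide +kernel) (by decide +kernel) hi hj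
  · exact vvv_aux D T hp hg (a := 0) (b := 3) (by norm_num) (by norm_num) (by decide +kernel) (by decide +kernel) hi hj
  · exact vvv_aux D T hp hg (a := 0) (b := 4) (by norm_num) (by norm_num) (by decide +kernel) (by decide +kernel) hi hj
  · exact vvv_aux D T hp hg (a := 1) (b := 4) (by norm_num) (by norm_num) (by decide +kernel) (by decide +kernel) hi hj
  · exact vvv_aux D T hp hg (a := 2) (b := 4) (by norm_num) (by norm_num) (by decide +kernel) (by decide +kernel) hi hj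
  · exact vvv_aux D T hp hg (a := 4) (b := 3) (by norm_num) (by norm_num) (by decide +kernel) (by decide +kernel) hi hj

/-- **The trilinear form vanishes on `U`.** -/
theorem u7 (D : Dat2 κ ρ x m v) (hK : 7 ≤ Fintype.card K) :
    (∀ a ≤ 4, ∀ b ≤ 4, ∀ c ≤ 4, tf (st (m a) (m b)) (m c) = 0) ∧
    (∀ a ≤ 4, ∀ b ≤ 4, ∀ c ≤ 6, tf (st (m a) (m b)) (v c) = 0) ∧
    (∀ a ≤ 4, ∀ b ≤ 6, ∀ c ≤ 6, tf (st (m a) (v b)) (v c) = 0) ∧
    (∀ a ≤ 6, ∀ b ≤ 6, ∀ c ≤ 6, tf (st (v a) (v b)) (v c) = 0) := by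
  obtain ⟨p1, p2, p3, g1, g2, T⟩ := exists_tb D hK
  have hp := p2_ne D hK T
  have hg := g2_zero D T hp
  have hg1 := g1_zero D T hp hg
  refine ⟨?_, T.mmv, ?_, ?_⟩
  · intro a ha b hb c hc
    rw [T.mmm a ha b hb c hc, hg1, zero_mul]
  · intro a ha b hb c hc
    rw [T.mvv a ha b hb c hc, hg, zero_mul]
  · intro a ha b hb c hc
    rw [tf_comm]
    exact vvv D T hp hg hc ha hb

/-- the by-product in the form of `spx` -/
theorem xu' (D : Dat2 κ ρ x m v) : ∀ a ≤ 4, ∀ u ∈ spx 4 m ⊔ spx 6 v, st (x a) u ∈ spx 4 m ⊔ spx 6 v :=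
  fun _ ha _ hu => xu D ha hu

end

end Cfsg.Agent.R2.H5.U7
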